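import Groth.Agent.SerrePn.ClosedStatements
import Groth.Agent.ExtShX.DualTensor
import Groth.Agent.Nakai.ClMul
import Groth.Agent.Intersect.Surface
import Groth.Agent.W7Hull.InvDual
import Groth.Agent.TMul.AmpleBasis

/-!
Riemann–Roch on a Cohen–Macaulay projective surface with invertible dualizing sheaf.
-/

set_option autoImplicit false
set_option linter.style.haveILetI false
set_option backward.isDefEq.respectTransparency false

universe u

open CategoryTheory CategoryTheory.Limits AlgebraicGeometry TopologicalSpace Opposite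

noncomputable section

namespace Groth.Agent.RRSurf

variable (k : Type u) [Field k] {X : Scheme.{u}} [X.Over (Spec (CommRingCat.of k))] {N : ℕ}
  (ι : X ⟶ CohB1.ProjSpace N k) [IsClosedImmersion ι]
  (hι : ι ≫ CohB1.ProjSpace.toSpec N k = X ↘ Spec (CommRingCat.of k))
  [IsProper (X ↘ Spec (CommRingCat.of k))] [IsIntegral X]

include hι in
theorem riemann_roch (hdim : topologicalKrullDim X = 2)
    (hCM : ∀ x : X, LocCoh.IsCohenMacaulayLocalRing (X.presheaf.stalk x))
    (ω : X.Modules) (hωcoh : Coh.IsCoh ω) (hωinv : PicF.IsInvertible ω) (t : Coh.HH X ω 2 →ₗ[k] k)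
    (hdual : ∀ F : X.Modules, Coh.IsCoh F → ∀ ψ : Coh.HH X F 2 →ₗ[k] k,
      ∃! φ : F ⟶ ω, ∀ x : Coh.HH X F 2,
        ψ x = t (Sheaf.H.map ((SheafOfModules.toSheaf X.ringCatSheaf).map φ) 2 x))
    (L : X.Modules) (hL : PicF.IsInvertible L) :
    2 * Curv2.euler k X L =
      FGA.intNum k X 2 ![L, L] (Coh.structureModule X) - FGA.intNum k X 2 ![L, ω] (Coh.structureModule X) +
        2 * Curv2.euler k X (Coh.structureModule X) := by
  haveI := CurveRR.isNoetherian_of_proper k X
  have hd : topologicalKrullDim X ≤ ((2 : ℕ) : WithBot ℕ∞) := hdim.le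
  have hCM' : ∀ x : X, IsClosed ({x} : Set ↥X) →
      LocCoh.IsCohenMacaulayLocalRing (X.presheaf.stalk x) ∧
        ringKrullDim (X.presheaf.stalk x) = ((2 : ℕ) : WithBot ℕ∞) :=
    fun x hx => ⟨hCM x, (Intersect.dim_stalk_closed k hx).trans hdim⟩
  have hvan : ∀ F : X.Modules, ∀ i, 3 ≤ i → Subsingleton (Coh.HH X F i) := fun F i hi =>
    Groth.Agent.S0458.result (X := X.toPresheafedSpace.carrier) 2 hd (Coh.toAb F) i (by omega)
  have heul : ∀ F : X.Modules, Curv2.euler k X F =
      (CurveRR.h k F 0 : ℤ) - CurveRR.h k F 1 + CurveRR.h k F 2 := fun F => by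
    rw [CurveRR.euler_eq_sum F 3 (hvan F), Finset.sum_range_succ, Finset.sum_range_succ, Finset.sum_range_one]
    ring
  -- duality
  have key : ∀ (P P' : X.Modules), PicF.IsInvertible P →
      Nonempty ((DCoh.sheafHom P).obj ω ≅ P') → Curv2.euler k X P = Curv2.euler k X P' := by
    rintro P P' hP ⟨e⟩
    have hc : ∀ i, i ≤ 2 → CurveRR.h k P i = CurveRR.h k P' (2 - i) := by
      intro i hi
      obtain ⟨g⟩ := SerrePn.duality_vb ι hι hCM' ω hωcoh t hdual P
        (ResDesc.isFinLocFree_of_isInvertible hP) i hi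
      rw [← CurveRR.h_eq_of_iso e (2 - i)]
      exact (Subspace.dual_finrank_eq).symm.trans g.finrank_eq
    rw [heul, heul, hc 0 (by omega), hc 1 (by omega), hc 2 le_rfl]
    ring
  have hL' : PicF.IsInvertible (RefHull.dual L) := W7Hull.isInvertible_dual hL
  haveI := W7Hull.isIso_evDual hL
  let hLL' : CohB1.tensorMod L (RefHull.dual L) ≅ Coh.structureModule X := asIso (W7Hull.evDual L)
  have h1 : Curv2.euler k X L = Curv2.euler k X (CohB1.tensorMod ω (RefHull.dual L)) := by
    obtain ⟨d⟩ := ExtShX.nonempty_homDual (ResDesc.isFinLocFree_of_isInvertible hL) ω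
    exact key L _ hL ⟨d ≪≫ PicGrp.tensorModIso (Iso.refl ω)
      ((W7Hull.sheafHomIso L).app (Coh.structureModule X))⟩
  have hOinv : PicF.IsInvertible (Coh.structureModule X) := TMul.isInvertible_structureModule
  have h2 : Curv2.euler k X (Coh.structureModule X) = Curv2.euler k X ω := by
    obtain ⟨d⟩ := ExtShX.nonempty_homDual (ResDesc.isFinLocFree_of_isInvertible hOinv) ω
    haveI := W7Hull.isIso_evDual hOinv
    exact key _ _ hOinv ⟨d ≪≫ PicGrp.tensorModIso (Iso.refl ω)
      ((W7Hull.sheafHomIso (Coh.structureModule X)).app (Coh.structureModule X) ≪≫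
        (TMul.leftUnitIso _).symm ≪≫ asIso (W7Hull.evDual (Coh.structureModule X))) ≪≫ TMul.commIso _ _ ≪≫ TMul.leftUnitIso ω⟩
  have hM := TMul.isInvertible_tensorMod hωinv hL'
  -- bilinearity
  have hbil : Nakai.inter k L (CohB1.tensorMod ω (RefHull.dual L)) =
      Nakai.inter k L ω - Nakai.inter k L L := by
    rw [Nakai.inter_tensor_right k hd hωinv hL' hL, Nakai.inter_inv_right k hd hL ⟨hLL'⟩ hL]
    ring
  rw [← Nakai.intNum_eq_inter k hd, ← Nakai.intNum_eq_inter k hd, ← Nakai.intNum_eq_inter k hd] at hbil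
  have hbil' : FGA.intNum k X 2 ![L, CohB1.tensorMod ω (RefHull.dual L)] (Coh.structureModule X) =
      FGA.intNum k X 2 ![L, ω] (Coh.structureModule X) - FGA.intNum k X 2 ![L, L] (Coh.structureModule X) := by
    exact_mod_cast hbil
  have hprod : Curv2.euler k X (CohB1.tensorMod L (CohB1.tensorMod ω (RefHull.dual L))) = Curv2.euler k X ω :=
    CurveRR.euler_eq_of_iso
      (PicGrp.tensorModIso (Iso.refl L) (TMul.commIso ω (RefHull.dual L)) ≪≫
        (TMul.assocIso L (RefHull.dual L) ω).symm ≪≫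
        PicGrp.tensorModIso hLL' (Iso.refl ω) ≪≫ TMul.leftUnitIso ω)
  have hexp : Nakai.inter k L (CohB1.tensorMod ω (RefHull.dual L)) =
      (Curv2.euler k X (Coh.structureModule X) : ℚ) - Curv2.euler k X (CohB1.tensorMod ω (RefHull.dual L)) -
        (Curv2.euler k X L - Curv2.euler k X (CohB1.tensorMod L (CohB1.tensorMod ω (RefHull.dual L)))) := by
    rw [← CurveRR.euler_eq_of_iso (TMul.leftUnitIso (CohB1.tensorMod ω (RefHull.dual L))),
      ← CurveRR.euler_eq_of_iso (TMul.leftUnitIso L),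
      ← CurveRR.euler_eq_of_iso (PicGrp.tensorModIso (TMul.leftUnitIso L)
        (Iso.refl (CohB1.tensorMod ω (RefHull.dual L))))]
    rfl
  rw [← Nakai.intNum_eq_inter k hd, hbil', hprod, ← h1, ← h2] at hexp
  have hexp' : FGA.intNum k X 2 ![L, ω] (Coh.structureModule X) - FGA.intNum k X 2 ![L, L] (Coh.structureModule X) =
      Curv2.euler k X (Coh.structureModule X) - Curv2.euler k X L -
        (Curv2.euler k X L - Curv2.euler k X (Coh.structureModule X)) := by exact_mod_cast hexp
  linarith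

end Groth.Agent.RRSurf
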